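import Groth.Agent.H93.TorFree
import Groth.Agent.Lib.Modules.FreeStalk
import Mathlib.LinearAlgebra.FiniteDimensional.Lemmas

/-!
# The sheaf of rational functions as a pushforward, rank one torsion-free sheaves
-/

set_option autoImplicit false
universe u

open CategoryTheory Limits AlgebraicGeometry Opposite TopologicalSpace

namespace Groth.Agent.H93.RatFun

open Groth.Agent.Lib Groth.Agent.H93.TorFree

variable {X : Scheme.{u}} [IsIntegral X]

variable (X) in
/-- The local ring at the generic point. -/
noncomputable abbrev K : CommRingCat.{u} := X.presheaf.stalk (genericPoint X)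

variable (X) in
/-- The sheaf of rational functions. -/
noncomputable abbrev R : X.Modules :=
  (Scheme.Modules.pushforward (X.fromSpecStalk (genericPoint X))).obj
    (Coh.structureModule (Spec (X.presheaf.stalk (genericPoint X))))

lemma point_eq (p : Spec (X.presheaf.stalk (genericPoint X))) :
    X.fromSpecStalk (genericPoint X) p = genericPoint X := by
  let F : Field (X.presheaf.stalk (genericPoint X)) := inferInstanceAs (Field X.functionField)
  have : p = IsLocalRing.closedPoint (X.presheaf.stalk (genericPoint X)) := by
    refine PrimeSpectrum.ext ?_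
    exact (Ideal.eq_bot_or_top p.asIdeal).resolve_right p.isPrime.ne_top |>.trans
      ((Ideal.eq_bot_or_top _).resolve_right
        (IsLocalRing.closedPoint (X.presheaf.stalk (genericPoint X))).isPrime.ne_top).symm
  rw [this]
  exact Scheme.fromSpecStalk_closedPoint

lemma preimage_eq_top {U : X.Opens} (h : genericPoint X ∈ U) :
    X.fromSpecStalk (genericPoint X) ⁻¹ᵁ U = ⊤ := by
  refine eq_top_iff.mpr fun p _ => ?_
  show X.fromSpecStalk (genericPoint X) p ∈ U
  rwa [point_eq]

lemma preimage_eq_bot {U : X.Opens} (h : ¬ genericPoint X ∈ U) :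
    X.fromSpecStalk (genericPoint X) ⁻¹ᵁ U = ⊥ := by
  refine eq_bot_iff.mpr fun p hp => h ?_
  have hp' : X.fromSpecStalk (genericPoint X) p ∈ U := hp
  rwa [point_eq] at hp'

/-- Constant rational function as a section over `U`. -/
noncomputable def const (U : X.Opens) :
    X.presheaf.stalk (genericPoint X) →+*
      Γ(Spec (X.presheaf.stalk (genericPoint X)), X.fromSpecStalk (genericPoint X) ⁻¹ᵁ U) :=
  ((Scheme.ΓSpecIso (X.presheaf.stalk (genericPoint X))).inv ≫
    (Spec (X.presheaf.stalk (genericPoint X))).presheaf.map (homOfLE le_top).op).hom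

lemma const_germ {U : X.Opens} (h : genericPoint X ∈ U) (r : Γ(X, U)) :
    const U (X.presheaf.germ U (genericPoint X) h r) =
      (X.fromSpecStalk (genericPoint X)).app U r := by
  rw [Scheme.fromSpecStalk_app h]
  rfl

lemma map_const {U V : X.Opens} (i : V ⟶ U) (a : X.presheaf.stalk (genericPoint X)) :
    (Spec (X.presheaf.stalk (genericPoint X))).presheaf.map
        ((Opens.map (X.fromSpecStalk (genericPoint X)).base).map i).op (const U a) = const V a := by
  simp only [const, CommRingCat.hom_comp, RingHom.comp_apply]
  rw [← ConcreteCategory.comp_apply, ← Functor.map_comp]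
  rfl

lemma const_bijective {U : X.Opens} (h : genericPoint X ∈ U) : Function.Bijective (const U) := by
  have : IsIso ((homOfLE (le_top : X.fromSpecStalk (genericPoint X) ⁻¹ᵁ U ≤ ⊤)).op) := by
    rw [show (homOfLE (le_top : X.fromSpecStalk (genericPoint X) ⁻¹ᵁ U ≤ ⊤)).op =
      (eqToHom (preimage_eq_top h)).op from rfl]
    infer_instance
  exact ConcreteCategory.bijective_of_isIso ((Scheme.ΓSpecIso _).inv ≫
    (Spec (X.presheaf.stalk (genericPoint X))).presheaf.map (homOfLE le_top).op)

lemma subsingleton_sections' {U : X.Opens} (h : ¬ genericPoint X ∈ U) :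
    Subsingleton Γ(Spec (X.presheaf.stalk (genericPoint X)), X.fromSpecStalk (genericPoint X) ⁻¹ᵁ U) := by
  rw [preimage_eq_bot h]
  exact CommRingCat.subsingleton_of_isTerminal
    ((Spec (X.presheaf.stalk (genericPoint X))).sheaf.isTerminalOfEmpty)

section Hom

variable {F : X.Modules}
  (φ : F.presheaf.stalk (genericPoint X) →ₗ[X.presheaf.stalk (genericPoint X)]
    X.presheaf.stalk (genericPoint X))

open scoped Classical in
/-- The rational function of a section. -/
noncomputable def sect (U : X.Opens) : Γ(F, U) →+
    Γ(Spec (X.presheaf.stalk (genericPoint X)), X.fromSpecStalk (genericPoint X) ⁻¹ᵁ U) :=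
  if h : genericPoint X ∈ U then
    ((const U).toAddMonoidHom.comp φ.toAddMonoidHom).comp (F.presheaf.germ U _ h).hom
  else 0

lemma sect_eq {U : X.Opens} (h : genericPoint X ∈ U) (t : Γ(F, U)) :
    sect φ U t = const U (φ (F.presheaf.germ U _ h t)) := by
  rw [sect, dif_pos h]
  rfl

lemma sect_smul {U : X.Opens} (r : Γ(X, U)) (t : Γ(F, U)) :
    sect φ U (r • t) = (X.fromSpecStalk (genericPoint X)).app U r * sect φ U t := by
  by_cases h : genericPoint X ∈ U
  · rw [sect_eq φ h, sect_eq φ h, Modules.StalkModule.germ_smul, map_smul, smul_eq_mul, map_mul,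
      const_germ h r]
  · exact (subsingleton_sections' h).elim _ _

lemma sect_res {U V : X.Opens} (i : V ⟶ U) (t : Γ(F, U)) :
    sect φ V (F.presheaf.map i.op t) = (Spec (X.presheaf.stalk (genericPoint X))).presheaf.map
      ((Opens.map (X.fromSpecStalk (genericPoint X)).base).map i).op (sect φ U t) := by
  by_cases h : genericPoint X ∈ V
  · rw [sect_eq φ h, sect_eq φ (i.le h), TopCat.Presheaf.germ_res_apply]
    exact (map_const i _).symm
  · exact (subsingleton_sections' h).elim _ _

/-- The morphism to rational functions defined by a linear form on the generic stalk. -/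
noncomputable def toR : F ⟶ R X :=
  ⟨PresheafOfModules.homMk
    { app := fun U => AddCommGrpCat.ofHom (sect φ U.unop)
      naturality := fun U V i => by
        ext t
        exact sect_res φ i.unop t }
    fun U r t => sect_smul φ r t⟩

lemma mono_toR [F.IsQuasicoherent] (hF : TorSh.IsTorsionFree F) (hφ : Function.Injective φ) :
    Mono (toR φ) := by
  rw [Modules.Stalk.mono_iff_app_injective]
  intro U
  refine (injective_iff_map_eq_zero ((toR φ).app U).hom).mpr fun t ht => ?_
  by_cases h : genericPoint X ∈ U
  · have ht' : sect φ U t = 0 := ht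
    rw [sect_eq φ h] at ht'
    refine eq_zero_of_germ_generic hF h t (hφ ?_)
    rw [map_zero]
    exact (const_bijective h).1 (ht'.trans (map_zero _).symm)
  · exact eq_zero_of_germs F t fun x hx => (h (generic_mem hx)).elim

end Hom

/-- A constant rational function, as a section of the sheaf of rational functions. -/
noncomputable def cR (U : X.Opens) (a : X.presheaf.stalk (genericPoint X)) : Γ(R X, U) := const U a

lemma map_cR {U V : X.Opens} (i : V ⟶ U) (a : X.presheaf.stalk (genericPoint X)) :
    (R X).presheaf.map i.op (cR U a) = cR V a := map_const i a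

lemma smul_cR {U : X.Opens} (h : genericPoint X ∈ U) (r : Γ(X, U))
    (a : X.presheaf.stalk (genericPoint X)) :
    r • cR U a = cR U (X.presheaf.germ U _ h r * a) := by
  show (X.fromSpecStalk (genericPoint X)).app U r * const U a = const U _
  rw [map_mul, const_germ h]

/-- The generic stalk of the rational functions is spanned by one element. -/
lemma exists_span :
    ∃ e : (R X).presheaf.stalk (genericPoint X), ∀ z, ∃ c : X.presheaf.stalk (genericPoint X),
      c • e = z := by
  have h : genericPoint X ∈ (⊤ : X.Opens) := trivial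
  refine ⟨(R X).presheaf.germ ⊤ _ h (cR ⊤ 1), fun z => ?_⟩
  obtain ⟨U, hU, t, rfl⟩ := TopCat.Presheaf.exists_germ_eq (R X).presheaf z
  obtain ⟨a, ha⟩ := (const_bijective hU).2 t
  obtain ⟨V, hV, r, hr⟩ := TopCat.Presheaf.exists_germ_eq X.presheaf a
  refine ⟨a, ?_⟩
  have hUV : genericPoint X ∈ U ⊓ V := ⟨hU, hV⟩
  have ht : t = cR U a := ha.symm
  rw [ht, ← TopCat.Presheaf.germ_res_apply (R X).presheaf (homOfLE (le_top : U ⊓ V ≤ ⊤)) _ hUV,
    ← TopCat.Presheaf.germ_res_apply (R X).presheaf (homOfLE (inf_le_left : U ⊓ V ≤ U)) _ hUV,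
    map_cR, map_cR, ← hr,
    ← TopCat.Presheaf.germ_res_apply X.presheaf (homOfLE (inf_le_right : U ⊓ V ≤ V)) _ hUV r,
    ← Modules.StalkModule.germ_smul, smul_cR hUV, mul_one]

instance isDominant_generic : IsDominant (X.fromSpecStalk (genericPoint X)) where
  denseRange := by
    have h : genericPoint X ∈ Set.range (X.fromSpecStalk (genericPoint X)) :=
      ⟨IsLocalRing.closedPoint (X.presheaf.stalk (genericPoint X)),
        Scheme.fromSpecStalk_closedPoint⟩
    rw [DenseRange, dense_iff_closure_eq, ← Set.univ_subset_iff,
      ← (genericPoint_spec X).def]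
    exact closure_mono (Set.singleton_subset_iff.mpr h)

/-- The structure module is torsion-free. -/
lemma isTorsionFree_unit (S : Scheme.{u}) : TorSh.IsTorsionFree (Coh.structureModule S) := fun x => by
  refine ⟨fun a ha => ?_⟩
  rw [isSMulRegular_iff_right_eq_zero_of_smul]
  intro v hv
  obtain ⟨U, hx, r, m, rfl, rfl⟩ := Modules.StalkModule.exists_germ_eq₂ a v
  have h' : S.presheaf.germ U x hx r * S.presheaf.germ U x hx (show Γ(S, U) from m) = 0 := by
    have e1 := Modules.FreeStalk.unitStalkToRing_smul x (S.presheaf.germ U x hx r)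
      ((Coh.structureModule S).presheaf.germ U x hx m)
    rw [hv, map_zero] at e1
    exact (congrArg _ (Modules.FreeStalk.unitStalkToRing_germ hx (show Γ(S, U) from m)).symm).trans
      e1.symm
  have hm : S.presheaf.germ U x hx (show Γ(S, U) from m) = 0 :=
    ha.left (h'.trans (mul_zero _).symm)
  obtain ⟨W, hxW, i₁, i₂, e⟩ := S.presheaf.germ_eq x hx hx (show Γ(S, U) from m) 0
    (hm.trans (map_zero _).symm)
  rw [← TopCat.Presheaf.germ_res_apply (Coh.structureModule S).presheaf i₁ x hxW m]
  have e' : (Coh.structureModule S).presheaf.map i₁.op m = 0 := e.trans (map_zero _)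
  rw [e', map_zero]

lemma isTorsionFree_R : TorSh.IsTorsionFree (R X) := by
  let F : Field (X.presheaf.stalk (genericPoint X)) := inferInstanceAs (Field X.functionField)
  exact isTorsionFree_pushforward _ _ (isTorsionFree_unit _)

/-- A torsion-free quasi-coherent sheaf of rank one embeds in the rational functions. -/
theorem exists_mono (F : X.Modules) [F.IsQuasicoherent] (hF : TorSh.IsTorsionFree F)
    (h1 : Module.finrank (X.presheaf.stalk (genericPoint X))
      (F.presheaf.stalk (genericPoint X)) = 1) : ∃ i : F ⟶ R X, Mono i := by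
  let _ : Field (X.presheaf.stalk (genericPoint X)) := inferInstanceAs (Field X.functionField)
  have : Module.Finite (X.presheaf.stalk (genericPoint X)) (F.presheaf.stalk (genericPoint X)) :=
    Module.finite_of_finrank_eq_succ h1
  let b := Module.finBasisOfFinrankEq _ _ h1
  let e := b.equivFun ≪≫ₗ LinearEquiv.funUnique (Fin 1) _ _
  exact ⟨toR e.toLinearMap, mono_toR _ hF e.injective⟩

/-- A nonzero quasi-coherent subsheaf of the rational functions is torsion-free of rank one. -/
theorem rank_one_of_mono (G : X.Modules) [G.IsQuasicoherent] (i : G ⟶ R X) [Mono i]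
    (hG : ¬ IsZero G) : TorSh.IsTorsionFree G ∧
      Module.finrank (X.presheaf.stalk (genericPoint X)) (G.presheaf.stalk (genericPoint X)) = 1 := by
  have hinj := (Modules.StalkModule.mono_iff_stalkMapₗ_injective i).mp inferInstance
  have hT : TorSh.IsTorsionFree G := fun x => by
    have := isTorsionFree_R (X := X) x
    exact (hinj x).moduleIsTorsionFree _ fun c v => map_smul _ c v
  refine ⟨hT, ?_⟩
  let _ : Field (X.presheaf.stalk (genericPoint X)) := inferInstanceAs (Field X.functionField)
  obtain ⟨e, he⟩ := exists_span (X := X)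
  have hfin : Module.Finite (X.presheaf.stalk (genericPoint X))
      ((R X).presheaf.stalk (genericPoint X)) :=
    ⟨⟨{e}, by
      rw [Finset.coe_singleton, eq_top_iff]
      exact fun z _ => Submodule.mem_span_singleton.mpr (he z)⟩⟩
  refine le_antisymm ((LinearMap.finrank_le_finrank_of_injective (hinj _)).trans
    (finrank_le_one e he)) ?_
  have : Module.Finite (X.presheaf.stalk (genericPoint X)) (G.presheaf.stalk (genericPoint X)) :=
    Module.Finite.of_injective _ (hinj _)
  have : Nontrivial (G.presheaf.stalk (genericPoint X)) := by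
    by_contra hs
    have := not_nontrivial_iff_subsingleton.mp hs
    refine hG ((Modules.Stalk.isZero_iff_stalk_subsingleton).mpr fun x => ⟨fun v w => ?_⟩)
    suffices H : ∀ v : G.presheaf.stalk x, v = 0 by rw [H v, H w]
    intro v
    obtain ⟨U, hx, t, rfl⟩ := TopCat.Presheaf.exists_germ_eq G.presheaf v
    rw [eq_zero_of_germ_generic hT (generic_mem hx) t (Subsingleton.elim _ _), map_zero]
  exact Module.finrank_pos

end Groth.Agent.H93.RatFun
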