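import Groth.Prelude.Def_TorSh
import Groth.Agent.Lib.QCoh.Stalk
import Groth.Agent.Lib.Modules.Stalk
import Mathlib.AlgebraicGeometry.FunctionField

/-!
# Torsion-free quasi-coherent modules: generic germs detect sections
-/

set_option autoImplicit false
universe u

open CategoryTheory Limits AlgebraicGeometry Opposite TopologicalSpace

namespace Groth.Agent.H93.TorFree

open Groth.Agent.Lib

variable {X Y : Scheme.{u}}

/-- Sections of a module are determined by their germs. -/
lemma eq_zero_of_germs (M : X.Modules) {U : X.Opens} (t : Γ(M, U))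
    (h : ∀ (x : X) (hx : x ∈ U), M.presheaf.germ U x hx t = 0) : t = 0 :=
  TopCat.Presheaf.section_ext (⟨M.presheaf, M.isSheaf⟩ : TopCat.Sheaf AddCommGrpCat.{u} X)
    U t 0 fun x hx => (h x hx).trans (map_zero _).symm

lemma generic_mem [IsIntegral X] {U : X.Opens} {x : X} (hx : x ∈ U) : genericPoint X ∈ U :=
  ((genericPoint_spec X).mem_open_set_iff U.isOpen).mpr ⟨x, trivial, hx⟩

/-- On an integral scheme, if a function `r` with nonzero germ at `x` kills `t`, a torsion-free
module has zero germ of `t` at `x`. -/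
lemma germ_eq_zero_of_smul {M : X.Modules} [IsIntegral X] (hM : TorSh.IsTorsionFree M)
    {U : X.Opens} {x : X} (hx : x ∈ U) (r : Γ(X, U)) (hr : r ≠ 0) (t : Γ(M, U))
    (h : r • t = 0) : M.presheaf.germ U x hx t = 0 := by
  have h' := congrArg (M.presheaf.germ U x hx) h
  rw [Modules.StalkModule.germ_smul, map_zero] at h'
  have := hM x
  have : IsDomain (X.presheaf.stalk x) := inferInstance
  refine (smul_eq_zero_iff_right ?_).mp h'
  exact fun h0 => hr (germ_injective_of_isIntegral X x hx (h0.trans (map_zero _).symm))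

/-- On an integral scheme, a section of a torsion-free quasi-coherent module with zero germ at the
generic point is zero. -/
lemma eq_zero_of_germ_generic {M : X.Modules} [M.IsQuasicoherent] [IsIntegral X]
    (hM : TorSh.IsTorsionFree M) {U : X.Opens} (hξ : genericPoint X ∈ U) (t : Γ(M, U))
    (h : M.presheaf.germ U (genericPoint X) hξ t = 0) : t = 0 := by
  refine eq_zero_of_germs M t fun x hx => ?_
  obtain ⟨V, hV, hxV, hVU⟩ := exists_isAffineOpen_mem_and_subset hx
  have hξV := generic_mem hxV
  have h1 : M.presheaf.germ V (genericPoint X) hξV (M.presheaf.map (homOfLE hVU).op t) = 0 := by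
    exact (TopCat.Presheaf.germ_res_apply M.presheaf (homOfLE hVU) _ hξV t).trans h
  obtain ⟨f, hf, hft⟩ := (QCoh.Stalk.germ_eq_zero_iff M hV hξV _).mp h1
  have hf0 : f ≠ 0 := fun h0 => by
    rw [h0, Scheme.basicOpen_zero] at hf
    exact hf
  rw [← TopCat.Presheaf.germ_res_apply M.presheaf (homOfLE hVU) x hxV t]
  exact germ_eq_zero_of_smul hM hxV f hf0 _ hft

/-- Generic germs detect sections: injectivity. -/
lemma germ_generic_injective {M : X.Modules} [M.IsQuasicoherent] [IsIntegral X]
    (hM : TorSh.IsTorsionFree M) {U : X.Opens} (hξ : genericPoint X ∈ U) :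
    Function.Injective (M.presheaf.germ U (genericPoint X) hξ) :=
  (injective_iff_map_eq_zero _).mpr fun t h => eq_zero_of_germ_generic hM hξ t h


namespace Pushforward

lemma app_ne_zero [IsIntegral Y] (f : X ⟶ Y) [IsDominant f] {W : Y.Opens} (r : Γ(Y, W))
    (hr : r ≠ 0) : f.app W r ≠ 0 := by
  intro h0
  have hne : (Y.basicOpen r : Set Y).Nonempty := by
    rw [Set.nonempty_iff_ne_empty]
    intro he
    exact hr ((basicOpen_eq_bot_iff r).mp (SetLike.coe_injective he))
  obtain ⟨x, hx⟩ := f.denseRange.exists_mem_open (Y.basicOpen r).isOpen hne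
  have : x ∈ X.basicOpen (f.app W r) := by
    rw [← Scheme.preimage_basicOpen]
    exact hx
  rw [h0, Scheme.basicOpen_zero] at this
  exact this

end Pushforward

/-- Scalars act on a pushforward through `f^♯`. -/
lemma pushforward_smul (f : X ⟶ Y) (F : X.Modules) (W : Y.Opens) (r : Γ(Y, W))
    (m : Γ((Scheme.Modules.pushforward f).obj F, W)) :
    (show Γ(F, f ⁻¹ᵁ W) from r • m) = f.app W r • (show Γ(F, f ⁻¹ᵁ W) from m) := rfl

/-- Push forward along a dominant morphism of integral schemes preserves torsion-freeness. -/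
theorem isTorsionFree_pushforward [IsIntegral X] [IsIntegral Y] (f : X ⟶ Y) [IsDominant f]
    (F : X.Modules) (hF : TorSh.IsTorsionFree F) :
    TorSh.IsTorsionFree ((Scheme.Modules.pushforward f).obj F) := by
  intro y
  refine ⟨fun a ha => ?_⟩
  have ha0 : a ≠ 0 := ha.ne_zero
  rw [isSMulRegular_iff_right_eq_zero_of_smul]
  intro z hz
  obtain ⟨U, hyU, r, t, rfl, rfl⟩ := Modules.StalkModule.exists_germ_eq₂ a z
  rw [← Modules.StalkModule.germ_smul, ← map_zero (((Scheme.Modules.pushforward f).obj F).presheaf.germ U y hyU).hom] at hz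
  obtain ⟨W, hyW, i₁, i₂, e⟩ := TopCat.Presheaf.germ_eq _ y hyU hyU _ _ hz
  rw [map_zero] at e
  rw [← TopCat.Presheaf.germ_res_apply _ i₁ y hyW t]
  rw [Scheme.Modules.map_smul] at e
  have e' : f.app W (Y.presheaf.map i₁.op r) •
      (show Γ(F, f ⁻¹ᵁ W) from ((Scheme.Modules.pushforward f).obj F).presheaf.map i₁.op t) = 0 :=
    (pushforward_smul f F W _ _).symm.trans e
  have hr0 : Y.presheaf.map i₁.op r ≠ 0 := fun h0 => ha0 (by
    rw [← TopCat.Presheaf.germ_res_apply Y.presheaf i₁ y hyW r, h0, map_zero])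
  have hzero : (show Γ(F, f ⁻¹ᵁ W) from ((Scheme.Modules.pushforward f).obj F).presheaf.map i₁.op t) = 0 :=
    eq_zero_of_germs F _ fun x hx =>
      germ_eq_zero_of_smul hF hx _ (Pushforward.app_ne_zero f _ hr0) _ e'
  have hzero' : ((Scheme.Modules.pushforward f).obj F).presheaf.map i₁.op t = 0 := hzero
  rw [hzero', map_zero]

/-- A germ is killed by a nonzero element as soon as the generic stalk is zero. -/
lemma exists_ne_zero_smul_eq_zero [IsIntegral X] (F : X.Modules) [F.IsQuasicoherent]
    (h : Subsingleton (F.presheaf.stalk (genericPoint X))) (x : X) (s : F.presheaf.stalk x) :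
    ∃ a : X.presheaf.stalk x, a ≠ 0 ∧ a • s = 0 := by
  obtain ⟨W, hxW, t, rfl⟩ := TopCat.Presheaf.exists_germ_eq F.presheaf s
  obtain ⟨U, hU, hxU, hUW⟩ := exists_isAffineOpen_mem_and_subset hxW
  rw [← TopCat.Presheaf.germ_res_apply F.presheaf (homOfLE hUW) x hxU t]
  obtain ⟨f, hf, hft⟩ :=
    (QCoh.Stalk.germ_eq_zero_iff F hU (generic_mem hxU) _).mp (h.elim _ _)
  refine ⟨X.presheaf.germ U x hxU f, fun h0 => ?_, ?_⟩
  · have : f = 0 := germ_injective_of_isIntegral X x hxU (h0.trans (map_zero _).symm)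
    rw [this, Scheme.basicOpen_zero] at hf
    exact hf
  · rw [← Modules.StalkModule.germ_smul, hft, map_zero]

/-- If some stalk vanishes then so does the generic one. -/
lemma subsingleton_generic [IsIntegral X] (F : X.Modules) [F.IsQuasicoherent] (x : X)
    (h : Subsingleton (F.presheaf.stalk x)) : Subsingleton (F.presheaf.stalk (genericPoint X)) := by
  obtain ⟨U, hU, hxU, -⟩ := exists_isAffineOpen_mem_and_subset (U := ⊤) (Set.mem_univ x)
  refine ⟨fun z w => ?_⟩
  suffices H : ∀ z : F.presheaf.stalk (genericPoint X), z = 0 by rw [H z, H w]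
  intro z
  obtain ⟨f, t, hf, e⟩ := QCoh.Stalk.exists_smul_eq_germ F hU (generic_mem hxU) z
  obtain ⟨g, hg, hgt⟩ := (QCoh.Stalk.germ_eq_zero_iff F hU hxU t).mp (h.elim _ _)
  have hg' : genericPoint X ∈ X.basicOpen g := generic_mem hg
  rw [(QCoh.Stalk.germ_eq_zero_iff F hU (generic_mem hxU) t).mpr ⟨g, hg', hgt⟩] at e
  exact ((RingedSpace.mem_basicOpen _ f _ (generic_mem hxU)).mp hf).smul_eq_zero.mp e

end Groth.Agent.H93.TorFree
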