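import Mathlib.RingTheory.Ideal.KrullsHeightTheorem
import Mathlib.RingTheory.Jacobson.Ring
import Mathlib.RingTheory.MvPolynomial.Basic
import Mathlib.RingTheory.Polynomial.Basic
import Mathlib.FieldTheory.IsAlgClosed.Basic
import Mathlib.Algebra.MvPolynomial.Eval

/-!
The Segre ring `k[x_i y_j]` has height at least `a + b - 1` at the irrelevant maximal ideal, so a
family of fewer bilinear forms has a common zero off the axes.
-/

set_option autoImplicit false

namespace Groth.Agent.H93.Hopf

open MvPolynomial

variable (k : Type*) [Field k] (a b : ℕ)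

/-- `z_{ij} ↦ x_i y_j`. -/
noncomputable def segre :
    MvPolynomial (Fin a × Fin b) k →ₐ[k] MvPolynomial (Fin a ⊕ Fin b) k :=
  aeval fun p => X (Sum.inl p.1) * X (Sum.inr p.2)

/-- The Segre ring. -/
noncomputable abbrev SR : Subalgebra k (MvPolynomial (Fin a ⊕ Fin b) k) := (segre k a b).range

/-- The generator `x_i y_j` of the Segre ring. -/
noncomputable def gen (i : Fin a) (j : Fin b) : SR k a b :=
  (segre k a b).rangeRestrict (X (i, j))

theorem gen_val (i : Fin a) (j : Fin b) :
    (gen k a b i j : MvPolynomial (Fin a ⊕ Fin b) k) = X (Sum.inl i) * X (Sum.inr j) := by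
  show segre k a b (X (i, j)) = _
  simp [segre]

theorem algHom_ext_SR {S : Type*} [CommRing S] [Algebra k S] {f g : SR k a b →ₐ[k] S}
    (h : ∀ i j, f (gen k a b i j) = g (gen k a b i j)) : f = g := by
  have hc : f.comp (segre k a b).rangeRestrict = g.comp (segre k a b).rangeRestrict :=
    MvPolynomial.algHom_ext fun p => h p.1 p.2
  apply AlgHom.ext
  intro r
  obtain ⟨p, hp⟩ := (segre k a b).rangeRestrict_surjective r
  rw [← hp]
  exact DFunLike.congr_fun hc p

open Classical in
/-- Substitute zero for the variables satisfying `P`. -/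
noncomputable def killMap (P : Fin a ⊕ Fin b → Prop) :
    SR k a b →ₐ[k] MvPolynomial (Fin a ⊕ Fin b) k :=
  (aeval fun v => if P v then (0 : MvPolynomial (Fin a ⊕ Fin b) k) else X v).comp (SR k a b).val

theorem ker_killMap_mono {P Q : Fin a ⊕ Fin b → Prop} (h : ∀ v, P v → Q v) :
    RingHom.ker (killMap k a b P) ≤ RingHom.ker (killMap k a b Q) := by
  classical
  intro r hr
  have hc : killMap k a b Q =
      (aeval fun v => if Q v then (0 : MvPolynomial (Fin a ⊕ Fin b) k) else X v).comp
        (killMap k a b P) := by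
    rw [killMap, killMap, ← AlgHom.comp_assoc]
    congr 1
    apply MvPolynomial.algHom_ext
    intro v
    by_cases hP : P v
    · simp [hP, h v hP]
    · simp [hP]
  rw [RingHom.mem_ker] at hr ⊢
  rw [hc, AlgHom.comp_apply, hr, map_zero]

theorem killMap_gen_eq_zero_iff (P : Fin a ⊕ Fin b → Prop) (i : Fin a) (j : Fin b) :
    killMap k a b P (gen k a b i j) = 0 ↔ P (Sum.inl i) ∨ P (Sum.inr j) := by
  classical
  simp only [killMap, AlgHom.comp_apply, Subalgebra.coe_val, gen_val, map_mul, aeval_X, mul_eq_zero]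
  by_cases h1 : P (Sum.inl i) <;> by_cases h2 : P (Sum.inr j) <;> simp [h1, h2]

theorem ker_killMap_lt {P Q : Fin a ⊕ Fin b → Prop} (h : ∀ v, P v → Q v) (i : Fin a) (j : Fin b)
    (hP : ¬ (P (Sum.inl i) ∨ P (Sum.inr j))) (hQ : Q (Sum.inl i) ∨ Q (Sum.inr j)) :
    RingHom.ker (killMap k a b P) < RingHom.ker (killMap k a b Q) := by
  refine lt_of_le_of_ne (ker_killMap_mono k a b h) fun he => hP ?_
  have : gen k a b i j ∈ RingHom.ker (killMap k a b Q) := by
    rw [RingHom.mem_ker, killMap_gen_eq_zero_iff]; exact hQ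
  rwa [← he, RingHom.mem_ker, killMap_gen_eq_zero_iff] at this

/-- The position of a variable in the order `x_0 … x_{a-2}, y_0 … y_{b-2}`; the last variable of
each kind comes at the very end. -/
def pos : Fin a ⊕ Fin b → ℕ
  | Sum.inl i => if (i : ℕ) + 1 < a then (i : ℕ) else a + b - 2
  | Sum.inr j => if (j : ℕ) + 1 < b then a - 1 + (j : ℕ) else a + b - 2

theorem le_height_ker_killMap (ha : 0 < a) (hb : 0 < b) (n : ℕ) (hn : n ≤ a + b - 1) :
    (n : ℕ∞) ≤ (RingHom.ker (killMap k a b (fun v => pos a b v < n))).height := by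
  induction n with
  | zero => exact bot_le
  | succ n ih =>
    have hlt : RingHom.ker (killMap k a b (fun v => pos a b v < n)) <
        RingHom.ker (killMap k a b (fun v => pos a b v < n + 1)) := by
      rcases Nat.lt_or_ge n (a - 1) with h | h
      · refine ker_killMap_lt k a b (fun v hv => by omega) ⟨n, by omega⟩ ⟨b - 1, by omega⟩ ?_ ?_
        · simp only [pos]; split_ifs <;> omega
        · left; simp only [pos]; split_ifs <;> omega
      rcases Nat.lt_or_ge n (a + b - 2) with h' | h'
      · refine ker_killMap_lt k a b (fun v hv => by omega) ⟨a - 1, by omega⟩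
          ⟨n - (a - 1), by omega⟩ ?_ ?_
        · simp only [pos]; split_ifs <;> omega
        · right; simp only [pos]; split_ifs <;> omega
      · refine ker_killMap_lt k a b (fun v hv => by omega) ⟨a - 1, by omega⟩ ⟨b - 1, by omega⟩ ?_ ?_
        · simp only [pos]; split_ifs <;> omega
        · left; simp only [pos]; split_ifs <;> omega
    haveI : ∀ P, (RingHom.ker (killMap k a b P)).IsPrime := fun P => RingHom.ker_isPrime _
    have := Ideal.height_add_one_le_of_lt_of_isPrime hlt
    refine le_trans ?_ this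
    push_cast
    exact add_le_add (ih (by omega)) le_rfl

/-- The augmentation `SR → k`. -/
noncomputable def aug : SR k a b →ₐ[k] k :=
  (aeval fun _ => (0 : k)).comp (SR k a b).val

theorem aug_gen (i : Fin a) (j : Fin b) : aug k a b (gen k a b i j) = 0 := by
  simp [aug, gen_val]

theorem ker_killMap_le_ker_aug (P : Fin a ⊕ Fin b → Prop) :
    RingHom.ker (killMap k a b P) ≤ RingHom.ker (aug k a b) := by
  classical
  intro r hr
  have hc : aug k a b = (aeval fun _ => (0 : k)).comp (killMap k a b P) := by
    rw [aug, killMap, ← AlgHom.comp_assoc]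
    congr 1
    apply MvPolynomial.algHom_ext
    intro v
    by_cases hP : P v <;> simp [hP]
  rw [RingHom.mem_ker] at hr ⊢
  rw [hc, AlgHom.comp_apply, hr, map_zero]

theorem le_height_ker_aug (ha : 0 < a) (hb : 0 < b) :
    ((a + b - 1 : ℕ) : ℕ∞) ≤ (RingHom.ker (aug k a b)).height :=
  (le_height_ker_killMap k a b ha hb _ le_rfl).trans
    (Ideal.height_mono (ker_killMap_le_ker_aug k a b _))

variable [IsAlgClosed k]

/-- Fewer than `a + b - 1` bilinear forms on `k^a × k^b` have a common zero `(u, v)` with `u ≠ 0`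
and `v ≠ 0`. -/
theorem exists_common_zero {ι : Type*} [Fintype ι] (ha : 0 < a) (hb : 0 < b)
    (hι : Fintype.card ι + 2 ≤ a + b) (ℓ : ι → Fin a → Fin b → k) :
    ∃ (u : Fin a → k) (v : Fin b → k), u ≠ 0 ∧ v ≠ 0 ∧
      ∀ m, ∑ i, ∑ j, ℓ m i j * (u i * v j) = 0 := by
  classical
  by_contra hno
  push_neg at hno
  let f : ι → SR k a b := fun m => ∑ i, ∑ j, ℓ m i j • gen k a b i j
  let I : Ideal (SR k a b) := Ideal.span (Set.range f)
  have haug : I ≤ RingHom.ker (aug k a b) := by
    refine Ideal.span_le.mpr ?_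
    rintro _ ⟨m, rfl⟩
    simp [f, aug_gen]
  have hsurj : Function.Surjective (segre k a b).rangeRestrict :=
    (segre k a b).rangeRestrict_surjective
  haveI : IsNoetherianRing (SR k a b) :=
    isNoetherianRing_of_surjective _ _ (segre k a b).rangeRestrict.toRingHom hsurj
  haveI : IsJacobsonRing (SR k a b) :=
    isJacobsonRing_of_surjective ⟨(segre k a b).rangeRestrict.toRingHom, hsurj⟩
  haveI hft : Algebra.FiniteType k (SR k a b) :=
    Algebra.FiniteType.of_surjective (segre k a b).rangeRestrict hsurj
  have hmax : ∀ M : Ideal (SR k a b), M.IsMaximal → I ≤ M → M = RingHom.ker (aug k a b) := by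
    intro M hM hIM
    letI : Field (SR k a b ⧸ M) := Ideal.Quotient.field M
    haveI : Algebra.FiniteType k (SR k a b ⧸ M) :=
      Algebra.FiniteType.of_surjective (Ideal.Quotient.mkₐ k M) Ideal.Quotient.mk_surjective
    haveI : Module.Finite k (SR k a b ⧸ M) := finite_of_finite_type_of_isJacobsonRing k _
    let e : k ≃ₐ[k] (SR k a b ⧸ M) :=
      AlgEquiv.ofBijective (Algebra.ofId k _) IsAlgClosed.algebraMap_bijective_of_isIntegral
    let χ : SR k a b →ₐ[k] k := e.symm.toAlgHom.comp (Ideal.Quotient.mkₐ k M)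
    have hMker : M = RingHom.ker χ := by
      ext r
      simp [χ, RingHom.mem_ker, Ideal.Quotient.eq_zero_iff_mem]
    let w : Fin a → Fin b → k := fun i j => χ (gen k a b i j)
    have hrel : ∀ i j i' j', w i j * w i' j' = w i j' * w i' j := by
      intro i j i' j'
      simp only [w, ← map_mul]
      congr 1
      apply Subtype.ext
      simp only [Subalgebra.coe_mul, gen_val]
      ring
    have hw : ∀ i j, w i j = 0 := by
      intro i₀ j₀
      by_contra h0
      let u : Fin a → k := fun i => w i j₀
      let v : Fin b → k := fun j => w i₀ j / w i₀ j₀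
      have huv : ∀ i j, u i * v j = w i j := by
        intro i j
        simp only [u, v]
        field_simp
        linear_combination hrel i j₀ i₀ j
      have hu : u ≠ 0 := fun h => h0 (congrFun h i₀)
      have hv : v ≠ 0 := fun h => by
        have := congrFun h j₀
        simp [v, h0] at this
      obtain ⟨m, hm⟩ := hno u v hu hv
      apply hm
      have h1 : χ (f m) = 0 := by
        rw [← RingHom.mem_ker (f := χ), ← hMker]
        exact hIM (Ideal.subset_span ⟨m, rfl⟩)
      simp only [f, map_sum, map_smul, smul_eq_mul] at h1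
      simp only [huv]
      exact h1
    have : χ = aug k a b := algHom_ext_SR k a b fun i j => by
      rw [aug_gen]; exact hw i j
    rw [hMker, this]
  have hmin : RingHom.ker (aug k a b) ∈ I.minimalPrimes := by
    refine ⟨⟨RingHom.ker_isPrime _, haug⟩, ?_⟩
    rintro p ⟨hp, hIp⟩ -
    intro r hr
    rw [← (isJacobsonRing_iff_prime_eq.mp inferInstance p hp)]
    rw [Ideal.jacobson, Ideal.mem_sInf]
    rintro M ⟨hpM, hM⟩
    rw [hmax M hM (hIp.trans hpM)]
    exact hr
  have h1 := Ideal.height_le_card_of_mem_minimalPrimes_span (Set.finite_range f) hmin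
  have h2 := le_height_ker_aug k a b ha hb
  have hcard : ((Set.range f).ncard : ℕ∞) ≤ (Fintype.card ι : ℕ∞) := by
    rw [← Set.image_univ]
    exact_mod_cast (Set.ncard_image_le Set.finite_univ).trans (by simp [Set.ncard_univ])
  have h3 : ((a + b - 1 : ℕ) : ℕ∞) ≤ (Fintype.card ι : ℕ∞) :=
    (h2.trans h1).trans hcard
  have := (Nat.cast_le (α := ℕ∞)).mp h3
  omega

end Groth.Agent.H93.Hopf
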