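import Groth.Prelude.Def_W4c1etcurveeff2PicMod
import Groth.Agent.H93.LSym
import Mathlib.RingTheory.RootsOfUnity.AlgebraicallyClosed
import Mathlib.FieldTheory.IsAlgClosed.Basic

/-!
The generalised Picard group of a smooth proper curve with a reduced modulus: the sequence
`0 → (kˣ)^S/kˣ → Pic_m → Pic → 0` and its `n`-torsion.
-/

set_option autoImplicit false

universe u

open CategoryTheory AlgebraicGeometry W4c1etcurveeff2
open Groth.Agent.Lib.SmoothCurve.Curve

namespace Groth.Agent.H93.PicMod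

variable {k : Type u} [Field k] [IsAlgClosed k] {X : Scheme.{u}} [IsIntegral X]
  (c : X ⟶ Spec (CommRingCat.of k)) [IsProper c] [Smooth c] (hdim : topologicalKrullDim X = 1)

include hdim

/-- The divisor of a rational function. -/
noncomputable def divOf (g : X.functionField) : LocSym.Pt c →₀ ℤ :=
  Finsupp.onFinset (finite_ord_ne_zero c hdim g).toFinset (fun x => x.ord g) fun _ hx =>
    (finite_ord_ne_zero c hdim g).mem_toFinset.mpr hx

theorem divOf_apply (g : X.functionField) (x : LocSym.Pt c) :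
    divOf c hdim g x = x.ord g := rfl

theorem isDivOf_zero : IsDivOf c 0 1 :=
  ⟨one_ne_zero, fun x => by simp [ord_one c hdim x]⟩

theorem isDivOf_add {D E : LocSym.Pt c →₀ ℤ} {g h : X.functionField} (hD : IsDivOf c D g)
    (hE : IsDivOf c E h) : IsDivOf c (D + E) (g * h) :=
  ⟨mul_ne_zero hD.1 hE.1, fun x => by
    rw [Finsupp.add_apply, hD.2, hE.2, ord_mul c hdim x hD.1 hE.1]⟩

theorem isDivOf_neg {D : LocSym.Pt c →₀ ℤ} {g : X.functionField} (hD : IsDivOf c D g) :
    IsDivOf c (-D) g⁻¹ :=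
  ⟨inv_ne_zero hD.1, fun x => by rw [Finsupp.neg_apply, hD.2, ord_inv c hdim x]⟩

theorem mem_principal {D : LocSym.Pt c →₀ ℤ} :
    D ∈ principal c ↔ ∃ g, IsDivOf c D g := by
  refine ⟨fun h => ?_, fun h => AddSubgroup.subset_closure h⟩
  induction h using AddSubgroup.closure_induction with
  | mem D hD => exact hD
  | zero => exact ⟨1, isDivOf_zero c hdim⟩
  | add D E _ _ hD hE => exact ⟨_, isDivOf_add c hdim hD.choose_spec hE.choose_spec⟩
  | neg D _ hD => exact ⟨_, isDivOf_neg c hdim hD.choose_spec⟩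

theorem mem_principalMod (m : LocSym.Pt c →₀ ℕ) {D : divAway c m} :
    D ∈ principalMod c m ↔
      ∃ g, IsDivOf c (D : LocSym.Pt c →₀ ℤ) g ∧ LocSym.Cong1 m g := by
  refine ⟨fun h => ?_, fun h => AddSubgroup.subset_closure h⟩
  induction h using AddSubgroup.closure_induction with
  | mem D hD => exact hD
  | zero => exact ⟨1, isDivOf_zero c hdim, fun x _ => LSym.cong1At_one c m x⟩
  | add D E _ _ hD hE =>
    exact ⟨_, isDivOf_add c hdim hD.choose_spec.1 hE.choose_spec.1, fun x hx =>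
      LSym.cong1At_mul c hdim m hx (hD.choose_spec.2 x hx) (hE.choose_spec.2 x hx)⟩
  | neg D _ hD =>
    exact ⟨_, isDivOf_neg c hdim hD.choose_spec.1, fun x hx =>
      LSym.cong1At_inv c hdim m hx (hD.choose_spec.2 x hx)⟩

omit [IsProper c] in
theorem hasValueAt_iff (x : LocSym.Pt c) (g : X.functionField) (a : k) :
    LocSym.HasValueAt x g a ↔ 0 < val c hdim x (g - LocSym.constFun c a) := by
  rw [LocSym.HasValueAt]
  by_cases h : g - LocSym.constFun c a = 0
  · simp [h, sub_eq_zero.mp h]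
  · rw [val_apply c hdim x h, ← WithTop.coe_zero, WithTop.coe_lt_coe]
    simp [sub_eq_zero.not.mp h]

omit [IsProper c] in
theorem val_constFun (x : LocSym.Pt c) {a : k} (ha : a ≠ 0) :
    val c hdim x (LocSym.constFun c a) = 0 := by
  rw [val_apply c hdim x (by simpa using ha), ord_constFun c hdim x a]
  rfl

theorem hasValueAt_unit {x : LocSym.Pt c} {g : X.functionField} {a : kˣ}
    (h : LocSym.HasValueAt x g a) : g ≠ 0 ∧ x.ord g = 0 ∧ val c hdim x g = 0 := by
  have h' := (hasValueAt_iff c hdim x g a).mp h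
  have h1 : val c hdim x g = 0 := by
    rw [← val_constFun c hdim x a.ne_zero] at h' ⊢
    have := AddValuation.map_add_eq_of_lt_left _ h'
    rwa [add_sub_cancel] at this
  have hg : g ≠ 0 := fun h0 => by simp [h0] at h1
  refine ⟨hg, ?_, h1⟩
  rw [val_apply c hdim x hg] at h1
  exact_mod_cast h1

omit [IsProper c] in
theorem hasValueAt_unique {x : LocSym.Pt c} {g : X.functionField} {a b : k}
    (ha : LocSym.HasValueAt x g a) (hb : LocSym.HasValueAt x g b) : a = b := by
  by_contra hne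
  have h := lt_of_lt_of_le (lt_min ((hasValueAt_iff c hdim x g a).mp ha)
    ((hasValueAt_iff c hdim x g b).mp hb)) (AddValuation.map_sub (val c hdim x) _ _)
  rw [sub_sub_sub_cancel_left, ← map_sub, val_constFun c hdim x (sub_ne_zero.mpr (Ne.symm hne))] at h
  exact lt_irrefl _ h

theorem hasValueAt_mul {x : LocSym.Pt c} {g h : X.functionField} {a b : kˣ}
    (ha : LocSym.HasValueAt x g a) (hb : LocSym.HasValueAt x h b) :
    LocSym.HasValueAt x (g * h) (a * b : kˣ) := by
  rw [hasValueAt_iff c hdim]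
  rw [Units.val_mul, map_mul, show g * h - LocSym.constFun c (a : k) * LocSym.constFun c (b : k) =
    g * (h - LocSym.constFun c (b : k)) + (g - LocSym.constFun c (a : k)) * LocSym.constFun c (b : k)
    by ring]
  refine AddValuation.map_lt_add _ ?_ ?_
  · rw [AddValuation.map_mul, (hasValueAt_unit c hdim ha).2.2, zero_add]
    exact (hasValueAt_iff c hdim x h b).mp hb
  · rw [AddValuation.map_mul, val_constFun c hdim x b.ne_zero, add_zero]
    exact (hasValueAt_iff c hdim x g a).mp ha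

theorem hasValueAt_inv {x : LocSym.Pt c} {g : X.functionField} {a : kˣ}
    (ha : LocSym.HasValueAt x g a) : LocSym.HasValueAt x g⁻¹ (a⁻¹ : kˣ) := by
  obtain ⟨hg, -, hv⟩ := hasValueAt_unit c hdim ha
  have hca : LocSym.constFun c (a : k) ≠ 0 := by simp
  rw [hasValueAt_iff c hdim, Units.val_inv_eq_inv_val, map_inv₀,
    show g⁻¹ - (LocSym.constFun c (a : k))⁻¹ =
      -((g - LocSym.constFun c (a : k)) * (g⁻¹ * (LocSym.constFun c (a : k))⁻¹)) by field_simp; ring,
    AddValuation.map_neg, AddValuation.map_mul, AddValuation.map_mul, AddValuation.map_inv,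
    AddValuation.map_inv, hv, val_constFun c hdim x a.ne_zero]
  simpa using (hasValueAt_iff c hdim x g a).mp ha

omit [IsProper c] in
theorem cong1At_iff_hasValueAt {m : LocSym.Pt c →₀ ℕ} {x : LocSym.Pt c} (hm : m x = 1)
    (g : X.functionField) : LocSym.Cong1At m x g ↔ LocSym.HasValueAt x g 1 := by
  rw [LocSym.HasValueAt, LocSym.Cong1At, hm, map_one]
  by_cases h : g = 1
  · simp [h]
  have e : x.ord (1 - g) = x.ord (g - 1) := by
    have h1 : g - 1 ≠ 0 := sub_ne_zero.mpr h
    have h2 : (1 : X.functionField) - g ≠ 0 := sub_ne_zero.mpr (Ne.symm h)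
    have := AddValuation.map_sub_swap (val c hdim x) 1 g
    rw [val_apply c hdim x h1, val_apply c hdim x h2] at this
    exact WithTop.coe_injective this
  simp only [h, false_or, e]
  push_cast
  omega

variable (m : LocSym.Pt c →₀ ℕ)

theorem picModToPic_mk (D : divAway c m) :
    picModToPic c m (QuotientAddGroup.mk D) = QuotientAddGroup.mk (D : LocSym.Pt c →₀ ℤ) := rfl

theorem surjective : Function.Surjective (picModToPic c m) := by
  classical
  intro y
  obtain ⟨D, rfl⟩ := QuotientAddGroup.mk_surjective y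
  choose t ht0 ht using fun x : LocSym.Pt c => exists_ord_eq c hdim x (-(D x))
  obtain ⟨g, hg0, hg⟩ := LSym.exists_ne_zero_near c hdim m.support t (fun _ => 0) fun x _ => ht0 x
  have hE : D + divOf c hdim g ∈ divAway c m := fun x hx => by
    rw [Finsupp.add_apply, divOf_apply, (hg x hx).2, ht, add_neg_cancel]
  refine ⟨QuotientAddGroup.mk ⟨_, hE⟩, ?_⟩
  rw [picModToPic_mk c hdim]
  refine (QuotientAddGroup.eq.mpr ?_).symm
  rw [neg_add_cancel_left]
  exact (mem_principal c hdim).mpr ⟨g, hg0, fun _ => rfl⟩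

/-- `y` is the class of the divisor of a function with values `v` on the modulus. -/
def Rel (v : LocSym.Pt c → kˣ) (y : PicMod c m) : Prop :=
  ∃ (g : X.functionField) (D : divAway c m),
    IsDivOf c (D : LocSym.Pt c →₀ ℤ) g ∧ (∀ x ∈ m.support, LocSym.HasValueAt x g (v x : k)) ∧
      y = QuotientAddGroup.mk D

theorem rel_mul {v w : LocSym.Pt c → kˣ} {y z : PicMod c m} (hy : Rel c m v y)
    (hz : Rel c m w z) : Rel c m (fun x => v x * w x) (y + z) := by
  obtain ⟨g, D, hD, hg, rfl⟩ := hy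
  obtain ⟨h, E, hE, hh, rfl⟩ := hz
  exact ⟨g * h, D + E, isDivOf_add c hdim hD hE,
    fun x hx => hasValueAt_mul c hdim (hg x hx) (hh x hx), rfl⟩

theorem rel_inv {v : LocSym.Pt c → kˣ} {y : PicMod c m} (hy : Rel c m v y) :
    Rel c m (fun x => (v x)⁻¹) (-y) := by
  obtain ⟨g, D, hD, hg, rfl⟩ := hy
  exact ⟨g⁻¹, -D, isDivOf_neg c hdim hD, fun x hx => hasValueAt_inv c hdim (hg x hx), rfl⟩

theorem rel_one : Rel c m (fun _ => 1) 0 :=
  ⟨1, 0, isDivOf_zero c hdim, fun _ _ => Or.inl (by simp), rfl⟩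

theorem rel_pow {v : LocSym.Pt c → kˣ} {y : PicMod c m} (hy : Rel c m v y) (n : ℕ) :
    Rel c m (fun x => v x ^ n) (n • y) := by
  induction n with
  | zero => simpa using rel_one c hdim m
  | succ n ih =>
    simpa [pow_succ, succ_nsmul] using rel_mul c hdim m ih hy

theorem exists_rel (v : LocSym.Pt c → kˣ) : ∃ y, Rel c m v y := by
  classical
  obtain ⟨g, hg0, hg⟩ := LSym.exists_ne_zero_near c hdim m.support
    (fun x => LocSym.constFun c (v x : k)) (fun _ => 1) fun x _ => by simp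
  have hD : divOf c hdim g ∈ divAway c m := fun x hx => by
    rw [divOf_apply, (hg x hx).2, ord_constFun c hdim x]
  refine ⟨_, g, ⟨_, hD⟩, ⟨hg0, fun _ => rfl⟩, fun x hx => ?_, rfl⟩
  rw [hasValueAt_iff c hdim]
  exact lt_of_lt_of_le (by exact_mod_cast Int.one_pos) (hg x hx).1

theorem picModToPic_eq_zero_iff (y : PicMod c m) :
    picModToPic c m y = 0 ↔ ∃ v, Rel c m v y := by
  classical
  constructor
  · obtain ⟨D, rfl⟩ := QuotientAddGroup.mk_surjective y
    rw [picModToPic_mk c hdim, QuotientAddGroup.eq_zero_iff, mem_principal c hdim]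
    rintro ⟨g, hg⟩
    have h : ∀ x, x ∈ m.support → ∃ a : kˣ, LocSym.HasValueAt x g (a : k) := by
      intro x hx
      have h0 : x.ord g = 0 := (hg.2 x).symm.trans (D.2 x hx)
      have hv : val c hdim x g = 0 := by rw [val_apply c hdim x hg.1, h0]; rfl
      obtain ⟨a, ha⟩ := exists_value c hdim x hv.ge
      have ha0 : a ≠ 0 := fun h => by rw [h, map_zero, sub_zero, hv] at ha; exact lt_irrefl _ ha
      exact ⟨Units.mk0 a ha0, (hasValueAt_iff c hdim x g a).mpr ha⟩
    choose! v hv using h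
    exact ⟨v, g, D, hg, hv, rfl⟩
  · rintro ⟨v, g, D, hD, -, rfl⟩
    rw [picModToPic_mk c hdim, QuotientAddGroup.eq_zero_iff, mem_principal c hdim]
    exact ⟨g, hD⟩

variable (hm : ∀ x : LocSym.Pt c, m x ≤ 1)

include hm

theorem rel_eq_zero_iff {v : LocSym.Pt c → kˣ} {y : PicMod c m} (hy : Rel c m v y) :
    y = 0 ↔ ∃ a : kˣ, ∀ x ∈ m.support, v x = a := by
  obtain ⟨g, D, hD, hg, rfl⟩ := hy
  rw [QuotientAddGroup.eq_zero_iff, mem_principalMod c hdim]
  have hm1 : ∀ x ∈ m.support, m x = 1 := fun x hx =>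
    le_antisymm (hm x) (LSym.support_one_le c m hx)
  constructor
  · rintro ⟨h, hh, hcong⟩
    obtain ⟨a, ha⟩ := exists_eq_constFun c hdim (g := g / h) fun x => by
      rw [ord_div c hdim x hD.1 hh.1, ← hD.2 x, ← hh.2 x, sub_self]
    have ha0 : a ≠ 0 := fun h0 => by
      rw [h0, map_zero] at ha
      exact div_ne_zero hD.1 hh.1 ha
    refine ⟨Units.mk0 a ha0, fun x hx => Units.ext ?_⟩
    refine hasValueAt_unique c hdim (hg x hx) ?_
    have h1 : LocSym.HasValueAt x h ((1 : kˣ) : k) :=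
      (cong1At_iff_hasValueAt c hdim (hm1 x hx) h).mp (hcong x hx)
    have h2 := hasValueAt_mul c hdim (a := Units.mk0 a ha0) (g := LocSym.constFun c a)
      (Or.inl rfl) h1
    rwa [mul_one, ← ha, div_mul_cancel₀ _ hh.1] at h2
  · rintro ⟨a, ha⟩
    have hca : LocSym.constFun c ((a⁻¹ : kˣ) : k) ≠ 0 := by simp
    refine ⟨g * LocSym.constFun c ((a⁻¹ : kˣ) : k), ⟨mul_ne_zero hD.1 hca, fun x => ?_⟩,
      fun x hx => ?_⟩
    · rw [ord_mul c hdim x hD.1 hca, ord_constFun c hdim x, add_zero, hD.2]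
    · rw [cong1At_iff_hasValueAt c hdim (hm1 x hx)]
      have h2 := hasValueAt_mul c hdim (hg x hx) (b := a⁻¹)
        (h := LocSym.constFun c ((a⁻¹ : kˣ) : k)) (Or.inl rfl)
      rwa [ha x hx, mul_inv_cancel, Units.val_one] at h2

theorem rel_eq {v w : LocSym.Pt c → kˣ} {y z : PicMod c m} (hy : Rel c m v y)
    (hz : Rel c m w z) (h : ∀ x ∈ m.support, v x = w x) : y = z := by
  rw [← sub_eq_zero, sub_eq_add_neg,
    rel_eq_zero_iff c hdim m hm (rel_mul c hdim m hy (rel_inv c hdim m hz))]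
  exact ⟨1, fun x hx => by simp [h x hx]⟩

theorem torsion_lift (n : ℕ) (hn : 1 ≤ n) (y : Pic c) (hy : n • y = 0) :
    ∃ x : PicMod c m, n • x = 0 ∧ picModToPic c m x = y := by
  obtain ⟨x₀, rfl⟩ := surjective c hdim m y
  rw [← map_nsmul, picModToPic_eq_zero_iff c hdim] at hy
  obtain ⟨v, hv⟩ := hy
  have hroot : ∀ x, ∃ w : kˣ, w ^ n = v x := fun x => by
    obtain ⟨z, hz⟩ := IsAlgClosed.exists_pow_nat_eq (v x : k) hn
    have hz0 : z ≠ 0 := fun h => by
      rw [h, zero_pow (by omega)] at hz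
      exact (v x).ne_zero hz.symm
    exact ⟨Units.mk0 z hz0, Units.ext (by simpa using hz)⟩
  choose w hw using hroot
  obtain ⟨z, hz⟩ := exists_rel c hdim m w
  refine ⟨x₀ - z, ?_, ?_⟩
  · rw [nsmul_sub, sub_eq_zero]
    exact rel_eq c hdim m hm hv (rel_pow c hdim m hz n) fun x _ => (hw x).symm
  · rw [map_sub, (picModToPic_eq_zero_iff c hdim m z).mpr ⟨w, hz⟩, sub_zero]

theorem card_torsion_ker (n : ℕ) (hn : 1 ≤ n) (hnk : (n : k) ≠ 0) :
    Nat.card {x : PicMod c m // n • x = 0 ∧ picModToPic c m x = 0} =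
      n ^ (m.support.card - 1) := by
  classical
  rcases m.support.eq_empty_or_nonempty with hS | ⟨x₀, hx₀⟩
  · rw [hS, Finset.card_empty, Nat.zero_sub, pow_zero]
    haveI : Nonempty {x : PicMod c m // n • x = 0 ∧ picModToPic c m x = 0} :=
      ⟨⟨0, smul_zero _, map_zero _⟩⟩
    haveI : Subsingleton {x : PicMod c m // n • x = 0 ∧ picModToPic c m x = 0} := by
      refine ⟨fun a b => Subtype.ext ?_⟩
      obtain ⟨v, hv⟩ := (picModToPic_eq_zero_iff c hdim m _).mp a.2.2
      obtain ⟨w, hw⟩ := (picModToPic_eq_zero_iff c hdim m _).mp b.2.2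
      exact rel_eq c hdim m hm hv hw fun x hx => by simp [hS] at hx
    exact Nat.card_unique
  haveI : NeZero n := ⟨by omega⟩
  haveI : NeZero (n : k) := ⟨hnk⟩
  choose κ hκ using exists_rel c hdim m
  let ext' : ((↥(m.support.erase x₀)) → rootsOfUnity n k) → LocSym.Pt c → kˣ :=
    fun ω x => if h : x ∈ m.support.erase x₀ then (ω ⟨x, h⟩ : kˣ) else 1
  have hext : ∀ ω x, ext' ω x ^ n = 1 := fun ω x => by
    simp only [ext']
    split_ifs with h
    · exact (ω ⟨x, h⟩).2
    · exact one_pow n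
  let e : ((↥(m.support.erase x₀)) → rootsOfUnity n k) →
      {x : PicMod c m // n • x = 0 ∧ picModToPic c m x = 0} := fun ω =>
    ⟨κ (ext' ω),
      (rel_eq_zero_iff c hdim m hm (rel_pow c hdim m (hκ _) n)).mpr ⟨1, fun x _ => hext ω x⟩,
      (picModToPic_eq_zero_iff c hdim m _).mpr ⟨_, hκ _⟩⟩
  have hbij : Function.Bijective e := by
    constructor
    · intro ω ω' h
      have h' : κ (ext' ω) = κ (ext' ω') := congrArg Subtype.val h
      rw [← sub_eq_zero, sub_eq_add_neg,
        rel_eq_zero_iff c hdim m hm (rel_mul c hdim m (hκ _) (rel_inv c hdim m (hκ _)))] at h'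
      obtain ⟨a, ha⟩ := h'
      have ha1 : a = 1 := by
        rw [← ha x₀ hx₀]
        simp [ext']
      funext ⟨x, hx⟩
      have := ha x (Finset.mem_of_mem_erase hx)
      rw [ha1, mul_inv_eq_one] at this
      simp only [ext', dif_pos hx] at this
      exact Subtype.ext this
    · rintro ⟨z, hzn, hz⟩
      obtain ⟨v, hv⟩ := (picModToPic_eq_zero_iff c hdim m z).mp hz
      obtain ⟨a, ha⟩ := (rel_eq_zero_iff c hdim m hm (rel_pow c hdim m hv n)).mp hzn
      have hroot : ∀ x ∈ m.support, (v x * (v x₀)⁻¹) ^ n = 1 := fun x hx => by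
        rw [mul_pow, inv_pow, ha x hx, ha x₀ hx₀, mul_inv_cancel]
      refine ⟨fun x => ⟨v x.1 * (v x₀)⁻¹, hroot _ (Finset.mem_of_mem_erase x.2)⟩, Subtype.ext ?_⟩
      dsimp only [e]
      rw [← sub_eq_zero, sub_eq_add_neg,
        rel_eq_zero_iff c hdim m hm (rel_mul c hdim m (hκ _) (rel_inv c hdim m hv))]
      refine ⟨(v x₀)⁻¹, fun x hx => ?_⟩
      by_cases hne : x = x₀
      · subst hne
        simp [ext']
      · simp [ext', hne, Finsupp.mem_support_iff.mp hx, mul_comm (v x)]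
  rw [← Nat.card_eq_of_bijective e hbij, Nat.card_fun, HasEnoughRootsOfUnity.natCard_rootsOfUnity,
    Nat.card_eq_fintype_card, Fintype.card_coe, Finset.card_erase_of_mem hx₀]

end Groth.Agent.H93.PicMod
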