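import Groth.Agent.H93.TorFree
import Mathlib.RingTheory.Ideal.MinimalPrime.Localization
import Mathlib.RingTheory.Ideal.MinimalPrime.Noetherian
import Mathlib.AlgebraicGeometry.Noetherian

/-!
# On a reduced locally Noetherian scheme, torsion-free sections are detected at field stalks
-/

set_option autoImplicit false
universe u

open CategoryTheory Limits AlgebraicGeometry Opposite TopologicalSpace

namespace Groth.Agent.H93.TorFreeReduced

open Groth.Agent.Lib Groth.Agent.H93.TorFree

/-- In a reduced Noetherian ring, an ideal contained in no minimal prime contains a regular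
element. -/
lemma exists_isRegular_mem {A : Type*} [CommRing A] [IsReduced A] [IsNoetherianRing A]
    (J : Ideal A) (h : ∀ P ∈ minimalPrimes A, ¬ J ≤ P) : ∃ a ∈ J, IsRegular a := by
  have hfin := minimalPrimes.finite_of_isNoetherianRing A
  have hns : ¬ (J : Set A) ⊆ ⋃ P ∈ minimalPrimes A, (P : Set A) := by
    intro hsub
    obtain ⟨P, hP, hle⟩ := (Ideal.subset_union_prime_finite hfin (f := id) ⊥ ⊥
      fun P hP _ _ => Ideal.minimalPrimes_isPrime hP).mp hsub
    exact h P hP hle
  obtain ⟨a, haJ, ha⟩ := Set.not_subset.mp hns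
  refine ⟨a, haJ, (Commute.isRegular_iff (Commute.all a)).mpr
    (isLeftRegular_iff_right_eq_zero_of_mul.mpr fun g hg => ?_)⟩
  have hmem : g ∈ (⊥ : Ideal A).radical := by
    rw [← Ideal.sInf_minimalPrimes]
    refine Submodule.mem_sInf.mpr fun P hP => ?_
    refine ((Ideal.minimalPrimes_isPrime hP).mem_or_mem (x := a) (y := g) ?_).resolve_left
      fun hm => ha (Set.mem_biUnion hP hm)
    rw [hg]
    exact zero_mem P
  simpa using hmem

variable {X : Scheme.{u}}

/-- The local ring at the point of a minimal prime of an affine open of a reduced scheme is a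
field. -/
lemma isField_stalk_fromSpec [AlgebraicGeometry.IsReduced X] {V : X.Opens} (hV : IsAffineOpen V)
    (P : PrimeSpectrum Γ(X, V)) (hP : P.asIdeal ∈ minimalPrimes Γ(X, V)) (hy : hV.fromSpec P ∈ V) :
    IsField (X.presheaf.stalk (hV.fromSpec P)) := by
  let _ := TopCat.Presheaf.algebra_section_stalk X.presheaf (⟨hV.fromSpec P, hy⟩ : V)
  have : IsLocalization.AtPrime (X.presheaf.stalk (hV.fromSpec P)) P.asIdeal :=
    hV.isLocalization_stalk' P hy
  rw [← PrimeSpectrum.subsingleton_iff_isField_of_isReduced]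
  exact IsLocalization.subsingleton_primeSpectrum_of_mem_minimalPrimes _ hP
    (X.presheaf.stalk (hV.fromSpec P))

/-- On a reduced locally Noetherian scheme, a section of a torsion-free quasi-coherent module
whose germs vanish at all points with field local ring specializing into `U` is zero. -/
theorem germ_eq_zero [AlgebraicGeometry.IsReduced X] [IsLocallyNoetherian X] (M : X.Modules)
    [M.IsQuasicoherent] (hM : TorSh.IsTorsionFree M) {U : X.Opens} (t : Γ(M, U))
    (h : ∀ (y : X) (hy : y ∈ U), IsField (X.presheaf.stalk y) → M.presheaf.germ U y hy t = 0)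
    (x : X) (hx : x ∈ U) : M.presheaf.germ U x hx t = 0 := by
  obtain ⟨V, hV, hxV, hVU⟩ := exists_isAffineOpen_mem_and_subset hx
  rw [← TopCat.Presheaf.germ_res_apply M.presheaf (homOfLE hVU) x hxV t]
  set tV := M.presheaf.map (homOfLE hVU).op t with htV
  let _ := TopCat.Presheaf.algebra_section_stalk X.presheaf (⟨x, hxV⟩ : V)
  have hloc := hV.isLocalization_stalk ⟨x, hxV⟩
  set p := (hV.primeIdealOf ⟨x, hxV⟩).asIdeal
  let J : Ideal (X.presheaf.stalk x) :=
    LinearMap.ker (LinearMap.toSpanSingleton (X.presheaf.stalk x) _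
      (M.presheaf.germ V x hxV tV))
  have hJ : ∀ q ∈ minimalPrimes (X.presheaf.stalk x), ¬ J ≤ q := by
    intro q hq hle
    have hqp := Ideal.minimalPrimes_isPrime hq
    let P : PrimeSpectrum Γ(X, V) :=
      ⟨q.comap (algebraMap Γ(X, V) (X.presheaf.stalk x)), inferInstance⟩
    have hmin : P.asIdeal ∈ minimalPrimes Γ(X, V) := by
      refine ⟨⟨P.isPrime, bot_le⟩, fun P' hP' hle' => ?_⟩
      have hd : Disjoint (p.primeCompl : Set Γ(X, V)) P' :=
        (((IsLocalization.isPrime_iff_isPrime_disjoint p.primeCompl _ q).mp hqp).2).mono_right hle'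
      have hpr := hP'.1
      have h1 := IsLocalization.isPrime_of_isPrime_disjoint p.primeCompl (X.presheaf.stalk x) P' hpr hd
      have h2 : P'.map (algebraMap Γ(X, V) (X.presheaf.stalk x)) ≤ q :=
        (Ideal.map_mono hle').trans Ideal.map_comap_le
      have h3 : q ≤ P'.map (algebraMap Γ(X, V) (X.presheaf.stalk x)) := hq.2 ⟨h1, bot_le⟩ h2
      exact (Ideal.comap_mono h3).trans
        (IsLocalization.comap_map_of_isPrime_disjoint p.primeCompl (X.presheaf.stalk x) hpr hd).le
    have hyV : hV.fromSpec P ∈ V := by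
      rw [← SetLike.mem_coe, ← hV.range_fromSpec]
      exact Set.mem_range_self _
    have hgz : M.presheaf.germ V (hV.fromSpec P) hyV tV = 0 := by
      exact (TopCat.Presheaf.germ_res_apply M.presheaf (homOfLE hVU) _ hyV t).trans
        (h _ (hVU hyV) (isField_stalk_fromSpec hV P hmin hyV))
    obtain ⟨f, hf, hft⟩ := (QCoh.Stalk.germ_eq_zero_iff M hV hyV tV).mp hgz
    have hfP : f ∉ P.asIdeal := by
      have : P ∈ hV.fromSpec ⁻¹ᵁ X.basicOpen f := hf
      rwa [hV.fromSpec_preimage_basicOpen] at this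
    refine hfP (hle ?_)
    show algebraMap Γ(X, V) (X.presheaf.stalk x) f • M.presheaf.germ V x hxV tV = 0
    show X.presheaf.germ V x hxV f • _ = (0 : M.presheaf.stalk x)
    rw [← Modules.StalkModule.germ_smul, hft, map_zero]
  obtain ⟨a, haJ, ha⟩ := exists_isRegular_mem J hJ
  have := hM x
  exact (ha.smul_eq_zero_iff_right (M := M.presheaf.stalk x)).mp haJ

/-- A morphism into a torsion-free quasi-coherent module vanishing at field-stalk points is zero
on sections. -/
theorem eq_zero [AlgebraicGeometry.IsReduced X] [IsLocallyNoetherian X] (M : X.Modules)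
    [M.IsQuasicoherent] (hM : TorSh.IsTorsionFree M) {U : X.Opens} (t : Γ(M, U))
    (h : ∀ (y : X) (hy : y ∈ U), IsField (X.presheaf.stalk y) → M.presheaf.germ U y hy t = 0) :
    t = 0 :=
  eq_zero_of_germs M t (germ_eq_zero M hM t h)

/-- In a locally Noetherian scheme, a dense open contains every point whose local ring is a
field. -/
lemma mem_of_dense_of_isField [IsLocallyNoetherian X] {U : X.Opens} (hU : Dense (U : Set X))
    {y : X} (hy : IsField (X.presheaf.stalk y)) : y ∈ U := by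
  classical
  obtain ⟨V, hV, hyV, -⟩ := exists_isAffineOpen_mem_and_subset (U := (⊤ : X.Opens)) (Set.mem_univ y)
  have hN : IsNoetherianRing Γ(X, V) := IsLocallyNoetherian.component_noetherian ⟨V, hV⟩
  let P := hV.primeIdealOf ⟨y, hyV⟩
  let _ := TopCat.Presheaf.algebra_section_stalk X.presheaf (⟨y, hyV⟩ : V)
  have hloc : IsLocalization.AtPrime (X.presheaf.stalk y) P.asIdeal := hV.isLocalization_stalk ⟨y, hyV⟩
  let _ := hy.toField
  have key : ∀ Q : Ideal Γ(X, V), Q.IsPrime → Q ≤ P.asIdeal → P.asIdeal ≤ Q := by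
    intro Q hQ hle
    have hd : Disjoint (P.asIdeal.primeCompl : Set Γ(X, V)) Q :=
      Set.disjoint_left.mpr fun z hz hzQ => hz (hle hzQ)
    have hd' : Disjoint (P.asIdeal.primeCompl : Set Γ(X, V)) P.asIdeal :=
      Set.disjoint_left.mpr fun z hz hzQ => hz hzQ
    have h1 : ∀ R : Ideal Γ(X, V), R.IsPrime → Disjoint (P.asIdeal.primeCompl : Set Γ(X, V)) R →
        R = (⊥ : Ideal (X.presheaf.stalk y)).comap (algebraMap Γ(X, V) (X.presheaf.stalk y)) := by
      intro R hR hdR
      have := IsLocalization.isPrime_of_isPrime_disjoint P.asIdeal.primeCompl (X.presheaf.stalk y) R hR hdR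
      rw [← (Ideal.eq_bot_or_top _).resolve_right this.ne_top]
      exact (IsLocalization.comap_map_of_isPrime_disjoint P.asIdeal.primeCompl _ hR hdR).symm
    rw [h1 Q hQ hd, h1 P.asIdeal inferInstance hd']
  set others := (minimalPrimes.finite_of_isNoetherianRing Γ(X, V)).toFinset.erase P.asIdeal
  obtain ⟨g, hg, hgP⟩ : ∃ g ∈ others.inf id, g ∉ P.asIdeal := by
    refine SetLike.not_le_iff_exists.mp fun hle => ?_
    obtain ⟨Q, hQ, hQP⟩ := (Ideal.IsPrime.inf_le' P.isPrime).mp hle
    obtain ⟨hne, hQm⟩ := Finset.mem_erase.mp hQ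
    have hQp : Q.IsPrime := Ideal.minimalPrimes_isPrime ((Set.Finite.mem_toFinset _).mp hQm)
    exact hne (le_antisymm hQP (key Q hQp hQP))
  have hyg : y ∈ X.basicOpen g := (QCoh.Stalk.mem_primeIdealOf_compl_iff hV hyV g).mp hgP
  obtain ⟨z, hz, hzU⟩ := hU.exists_mem_open (X.basicOpen g).isOpen ⟨y, hyg⟩
  have hzV : z ∈ V := X.basicOpen_le g hzU
  let Q := hV.primeIdealOf ⟨z, hzV⟩
  have hgQ : g ∉ Q.asIdeal := (QCoh.Stalk.mem_primeIdealOf_compl_iff hV hzV g).mpr hzU
  obtain ⟨Q', hQ', hQ'Q⟩ := Ideal.exists_minimalPrimes_le (I := ⊥) (J := Q.asIdeal) bot_le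
  have hQ'P : Q' = P.asIdeal := by
    by_contra hne
    exact hgQ (hQ'Q (Finset.inf_le (f := id) (Finset.mem_erase.mpr
      ⟨hne, (Set.Finite.mem_toFinset _).mpr hQ'⟩) hg))
  have hspec : P ⤳ Q := (PrimeSpectrum.le_iff_specializes _ _).mp (show P.asIdeal ≤ Q.asIdeal from hQ'P ▸ hQ'Q)
  have := hspec.map hV.fromSpec.continuous
  rw [hV.fromSpec_primeIdealOf, hV.fromSpec_primeIdealOf] at this
  exact this.mem_open U.isOpen hz

/-- A morphism into a torsion-free quasi-coherent module which vanishes on a dense open is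
zero. -/
lemma hom_eq_zero [AlgebraicGeometry.IsReduced X] [IsLocallyNoetherian X] {K M : X.Modules}
    [M.IsQuasicoherent] (hM : TorSh.IsTorsionFree M) {U : X.Opens} (hU : Dense (U : Set X))
    (u : K ⟶ M) (h : (Scheme.Modules.restrictFunctor U.ι).map u = 0) : u = 0 := by
  refine Scheme.Modules.hom_ext _ _ fun W => ConcreteCategory.ext_apply fun s => ?_
  refine eq_zero M hM (u.app W s) fun y hy hf => ?_
  have hy' : y ∈ U.ι ''ᵁ (U.ι ⁻¹ᵁ W) := ⟨⟨y, mem_of_dense_of_isField hU hf⟩, hy, rfl⟩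
  have hle : U.ι ''ᵁ (U.ι ⁻¹ᵁ W) ≤ W := by
    rintro _ ⟨z, hz, rfl⟩
    exact hz
  rw [← TopCat.Presheaf.germ_res_apply M.presheaf (homOfLE hle) y hy']
  have h0 : u.app (U.ι ''ᵁ (U.ι ⁻¹ᵁ W)) = 0 :=
    (congrArg (fun v => Scheme.Modules.Hom.app v (U.ι ⁻¹ᵁ W)) h).trans rfl
  have e : M.presheaf.map (homOfLE hle).op (u.app W s) =
      u.app _ (K.presheaf.map (homOfLE hle).op s) :=
    (ConcreteCategory.congr_hom (u.mapPresheaf.naturality (homOfLE hle).op) s).symm
  rw [e, h0]
  exact map_zero _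

/-- Torsion-free quotients agreeing on a dense open are isomorphic. -/
theorem exists_iso [AlgebraicGeometry.IsReduced X] [IsLocallyNoetherian X] {E F₁ F₂ : X.Modules}
    [F₁.IsQuasicoherent] [F₂.IsQuasicoherent]
    (h₁ : TorSh.IsTorsionFree F₁) (h₂ : TorSh.IsTorsionFree F₂)
    (q₁ : E ⟶ F₁) (q₂ : E ⟶ F₂) [Epi q₁] [Epi q₂] {U : X.Opens} (hU : Dense (U : Set X))
    (φ : F₁.restrict U.ι ≅ F₂.restrict U.ι)
    (hφ : (Scheme.Modules.restrictFunctor U.ι).map q₁ ≫ φ.hom =
      (Scheme.Modules.restrictFunctor U.ι).map q₂) :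
    ∃ ψ : F₁ ≅ F₂, q₁ ≫ ψ.hom = q₂ ∧
      (Scheme.Modules.restrictFunctor U.ι).map ψ.hom = φ.hom := by
  have := Functor.preservesEpimorphisms_of_adjunction (Scheme.Modules.restrictAdjunction U.ι)
  have k₁ : kernel.ι q₁ ≫ q₂ = 0 := hom_eq_zero h₂ hU _ (by
    rw [Functor.map_comp, ← hφ, ← Category.assoc, ← Functor.map_comp, kernel.condition]
    simp)
  have hφ' : (Scheme.Modules.restrictFunctor U.ι).map q₂ ≫ φ.inv =
      (Scheme.Modules.restrictFunctor U.ι).map q₁ := by
    rw [← hφ, Category.assoc, φ.hom_inv_id, Category.comp_id]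
  have k₂ : kernel.ι q₂ ≫ q₁ = 0 := hom_eq_zero h₁ hU _ (by
    rw [Functor.map_comp, ← hφ', ← Category.assoc, ← Functor.map_comp, kernel.condition]
    simp)
  refine ⟨⟨Abelian.epiDesc q₁ q₂ k₁, Abelian.epiDesc q₂ q₁ k₂, ?_, ?_⟩, Abelian.comp_epiDesc _ _ _,
    ?_⟩
  · rw [← cancel_epi q₁, Abelian.comp_epiDesc_assoc, Abelian.comp_epiDesc, Category.comp_id]
  · rw [← cancel_epi q₂, Abelian.comp_epiDesc_assoc, Abelian.comp_epiDesc, Category.comp_id]
  · rw [← cancel_epi ((Scheme.Modules.restrictFunctor U.ι).map q₁), hφ, ← Functor.map_comp,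
      Abelian.comp_epiDesc]

/-- If all field-stalk points of `U` specialize to `x`, the germ at `x` is injective. -/
theorem germ_injective [AlgebraicGeometry.IsReduced X] [IsLocallyNoetherian X] (M : X.Modules)
    [M.IsQuasicoherent] (hM : TorSh.IsTorsionFree M) {U : X.Opens} {x : X} (hx : x ∈ U)
    (hU : ∀ y : X, y ∈ U → IsField (X.presheaf.stalk y) → x ∈ closure ({y} : Set X)) :
    Function.Injective (M.presheaf.germ U x hx) := by
  refine (injective_iff_map_eq_zero _).mpr fun t ht => eq_zero M hM t fun y hy hf => ?_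
  obtain ⟨W, hxW, i₁, i₂, e⟩ := TopCat.Presheaf.germ_eq M.presheaf x hx hx t 0
    (ht.trans (map_zero _).symm)
  have hyW : y ∈ W := (specializes_iff_mem_closure.mpr (hU y hy hf)).mem_open W.isOpen hxW
  rw [← TopCat.Presheaf.germ_res_apply M.presheaf i₁ y hyW t, show M.presheaf.map i₁.op t = 0 from
    e.trans (map_zero _), map_zero]

end Groth.Agent.H93.TorFreeReduced
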